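/-
Structure of the mapping-cone Koszul complex: generators in the extreme degrees, the contraction
operators and the map of Koszul complexes induced by a linear change of sequence.
-/
import Groth.Prelude.Def_Koszul
import Mathlib.Algebra.Homology.HomotopyCategory.Pretriangulated
import Mathlib.Algebra.Homology.Linear
import Mathlib.Algebra.Category.ModuleCat.Projective
import Mathlib.Algebra.Category.ModuleCat.Biproducts
import Mathlib.Algebra.Module.Projective
import Mathlib.RingTheory.Ideal.Operations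
import Mathlib.Algebra.Homology.Embedding.CochainComplex
import Mathlib.RingTheory.Regular.RegularSequence

open CategoryTheory Limits CochainComplex HomComplex

universe u

namespace Groth.Agent.KoszulWiebe

variable {R : Type u} [CommRing R]

section ConeOp

variable {M : CochainComplex (ModuleCat.{u} R) ℤ}

theorem ofHom_smul' {N P : CochainComplex (ModuleCat.{u} R) ℤ} (a : R) (φ : N ⟶ P) :
    Cochain.ofHom (a • φ) = a • Cochain.ofHom φ := by
  ext
  simp

theorem cone_d_mem (f : R) (I : Ideal R)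
    (h : ∀ (i j : ℤ) (x : M.X i), (M.d i j).hom x ∈ I • (⊤ : Submodule R (M.X j)))
    (i j : ℤ) (x : (mappingCone (f • 𝟙 M)).X i) :
    ((mappingCone (f • 𝟙 M)).d i j).hom x ∈
      (Ideal.span {f} ⊔ I) • (⊤ : Submodule R ((mappingCone (f • 𝟙 M)).X j)) := by
  by_cases hr : i + 1 = j
  swap
  · rw [(mappingCone (f • 𝟙 M)).shape i j hr]
    exact Submodule.zero_mem _
  subst hr
  have hle : ∀ {N P : ModuleCat.{u} R} (φ : N ⟶ P) (y : N), y ∈ I • (⊤ : Submodule R N) →
      φ.hom y ∈ (Ideal.span {f} ⊔ I) • (⊤ : Submodule R P) := fun φ y hy =>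
    Submodule.smul_mono le_sup_right le_top (Submodule.smul_top_le_comap_smul_top I φ.hom hy)
  have hid := ConcreteCategory.congr_hom (mappingCone.id_X (f • 𝟙 M) i (i + 1) rfl) x
  simp only [ModuleCat.hom_add, ModuleCat.hom_comp, LinearMap.add_apply, LinearMap.comp_apply,
    ModuleCat.hom_id, LinearMap.id_apply] at hid
  rw [← hid, map_add]
  refine Submodule.add_mem _ ?_ ?_
  · generalize ((mappingCone.fst (f • 𝟙 M)).1.v i (i + 1) rfl).hom x = y
    rw [← LinearMap.comp_apply, ← ModuleCat.hom_comp,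
      mappingCone.inl_v_d (f • 𝟙 M) (i + 1) i (i + 1 + 1) (by omega) (by omega)]
    simp only [ModuleCat.hom_sub, ModuleCat.hom_comp, LinearMap.sub_apply, LinearMap.comp_apply]
    refine Submodule.sub_mem _ ?_ (hle _ _ (h _ _ y))
    have h1 : ((f • 𝟙 M : M ⟶ M).f (i + 1)).hom y = f • y := by
      rw [HomologicalComplex.smul_f_apply]
      rfl
    rw [h1, map_smul]
    exact Submodule.smul_mem_smul (Ideal.mem_sup_left (Ideal.mem_span_singleton_self f))
      Submodule.mem_top
  · generalize ((mappingCone.snd (f • 𝟙 M)).v i i (add_zero i)).hom x = y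
    rw [← LinearMap.comp_apply, ← ModuleCat.hom_comp, mappingCone.inr_f_d, ModuleCat.hom_comp,
      LinearMap.comp_apply]
    exact hle _ _ (h _ _ y)

theorem cone_boundary (f a b : R) (e : M.X 0) (hM : IsZero (M.X 1))
    (hb : ∃ y, (M.d (-1) 0).hom y = b • e) :
    ∃ y, ((mappingCone (f • 𝟙 M)).d (-1) 0).hom y =
      (a * f + b) • ((mappingCone.inr (f • 𝟙 M)).f 0).hom e := by
  obtain ⟨y, hy⟩ := hb
  refine ⟨((mappingCone.inl (f • 𝟙 M)).v 0 (-1) (by simp)).hom (a • e) +
    ((mappingCone.inr (f • 𝟙 M)).f (-1)).hom y, ?_⟩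
  rw [map_add, add_smul, ← LinearMap.comp_apply, ← ModuleCat.hom_comp, ← LinearMap.comp_apply,
    ← ModuleCat.hom_comp, mappingCone.inl_v_d (f • 𝟙 M) 0 (-1) 1 (by omega) (by omega),
    mappingCone.inr_f_d, hM.eq_of_tgt (M.d 0 1) 0, zero_comp, sub_zero]
  simp [hy, smul_smul, mul_comm]

/-- Extension of a contraction operator to the cone of `f`. -/
noncomputable def coneOp (f c : R) (L : Cochain M M (-1)) :
    Cochain (mappingCone (f • 𝟙 M)) (mappingCone (f • 𝟙 M)) (-1) :=
  mappingCone.descCochain (f • 𝟙 M)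
    (-(L.comp (mappingCone.inl (f • 𝟙 M)) (show (-1 : ℤ) + -1 = -2 by norm_num)))
    (L.comp (Cochain.ofHom (mappingCone.inr (f • 𝟙 M))) (add_zero _) +
      c • mappingCone.inl (f • 𝟙 M)) (by norm_num)

theorem δ_coneOp (f c s : R) (L : Cochain M M (-1))
    (h : δ (-1) 0 L = s • Cochain.ofHom (𝟙 M)) :
    δ (-1) 0 (coneOp f c L) = (f * c + s) • Cochain.ofHom (𝟙 _) := by
  rw [coneOp, mappingCone.δ_descCochain _ _ _ _ 0 (by norm_num),
    δ_neg, δ_add, δ_smul, δ_comp_ofHom, mappingCone.δ_inl, h,
    δ_comp _ _ (show (-1 : ℤ) + -1 = -2 by norm_num) 0 0 (-1) (by norm_num) (by norm_num)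
      (by norm_num), mappingCone.δ_inl, h, ← mappingCone.id (f • 𝟙 M)]
  simp only [Int.negOnePow_zero, Int.negOnePow_neg, Int.negOnePow_one, one_smul, ofHom_smul',
    Cochain.ofHom_comp, Cochain.comp_add, Cochain.add_comp, Cochain.comp_neg, Cochain.smul_comp,
    Cochain.comp_smul, Cochain.id_comp, Cochain.comp_id, Units.neg_smul, Linear.smul_comp,
    Category.id_comp, smul_add, smul_smul]
  simp only [add_smul, mul_comm c f]
  abel

theorem coneOp_add (f c c' : R) (L L' : Cochain M M (-1)) :
    coneOp f (c + c') (L + L') = coneOp f c L + coneOp f c' L' := by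
  simp only [coneOp, mappingCone.descCochain, add_smul, Cochain.comp_add, Cochain.add_comp,
    neg_add_rev]
  abel

theorem coneOp_smul (f c a : R) (L : Cochain M M (-1)) :
    coneOp f (a * c) (a • L) = a • coneOp f c L := by
  simp [coneOp, mappingCone.descCochain, smul_smul, Cochain.comp_smul, Cochain.smul_comp, smul_add]

theorem coneOp_sq (f c : R) (L : Cochain M M (-1))
    (h : L.comp L (show (-1 : ℤ) + -1 = -2 by norm_num) = 0) :
    (coneOp f c L).comp (coneOp f c L) (show (-1 : ℤ) + -1 = -2 by norm_num) = 0 := by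
  rw [mappingCone.ext_cochain_from_iff _ (-3) (-2) (by norm_num)]
  constructor
  · rw [Cochain.comp_zero, ← Cochain.comp_assoc _ _ _ (show (-1 : ℤ) + -1 = -2 by norm_num)
      (by norm_num) (by norm_num)]
    simp only [coneOp, mappingCone.inl_descCochain, Cochain.neg_comp]
    rw [Cochain.comp_assoc _ _ _ _ (show (-1 : ℤ) + -1 = -2 by norm_num) (by norm_num),
      mappingCone.inl_descCochain]
    simp only [Cochain.comp_neg, neg_neg]
    rw [← Cochain.comp_assoc _ _ _ (show (-1 : ℤ) + -1 = -2 by norm_num) (by norm_num) (by norm_num),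
      h, Cochain.zero_comp]
  · rw [Cochain.comp_zero, ← Cochain.comp_assoc_of_first_is_zero_cochain]
    simp only [coneOp, mappingCone.inr_descCochain, Cochain.add_comp, Cochain.smul_comp,
      Cochain.comp_assoc_of_second_is_zero_cochain, mappingCone.inr_descCochain,
      mappingCone.inl_descCochain, Cochain.comp_add, Cochain.comp_smul, Cochain.comp_neg]
    rw [← Cochain.comp_assoc_of_third_is_zero_cochain, h]
    simp

end ConeOp

local notation "K" => Koszul.koszul R

/-- Multiplication by `f` on the Koszul complex of `l`. -/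
noncomputable abbrev mul (f : R) (l : List R) : K l ⟶ K l := f • 𝟙 (K l)

theorem mul_f_apply (f : R) (l : List R) (i : ℤ) (x : (K l).X i) :
    ((mul f l).f i).hom x = f • x := by
  rw [HomologicalComplex.smul_f_apply]
  rfl

instance isStrictlyLE : ∀ l : List R, (K l).IsStrictlyLE 0
  | [] => inferInstanceAs (((CochainComplex.singleFunctor (ModuleCat.{u} R) 0).obj
      (ModuleCat.of R R)).IsStrictlyLE 0)
  | f :: l => by
    have := isStrictlyLE l
    rw [CochainComplex.isStrictlyLE_iff]
    intro i hi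
    exact (mappingCone.isZero_X_iff (mul f l) i).2
      ⟨CochainComplex.isZero_of_isStrictlyLE _ 0 _ (by omega),
        CochainComplex.isZero_of_isStrictlyLE _ 0 _ hi⟩

instance projective_X : ∀ (l : List R) (i : ℤ), Projective ((K l).X i)
  | [], i => by
    by_cases h : i = 0
    · subst h
      exact Projective.of_iso (HomologicalComplex.singleObjXSelf (ComplexShape.up ℤ) 0
        (ModuleCat.of R R)).symm ((ModuleCat.of R R).projective_of_categoryTheory_projective)
    · exact (HomologicalComplex.isZero_single_obj_X _ _ _ i h).projective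
  | f :: l, i => by
    have := projective_X l (i + 1)
    have := projective_X l i
    exact Projective.of_iso
      (HomologicalComplex.homotopyCofiber.XIsoBiprod (mul f l) i (i + 1) rfl).symm inferInstance

/-- The generator in degree zero. -/
noncomputable def e0 : ∀ l : List R, (K l).X 0
  | [] => (HomologicalComplex.singleObjXSelf (ComplexShape.up ℤ) 0 (ModuleCat.of R R)).inv.hom (1 : R)
  | f :: l => ((mappingCone.inr (mul f l)).f 0).hom (e0 l)

/-- The coordinate in degree zero. -/
noncomputable def t0 : ∀ l : List R, (K l).X 0 ⟶ ModuleCat.of R R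
  | [] => (HomologicalComplex.singleObjXSelf (ComplexShape.up ℤ) 0 (ModuleCat.of R R)).hom
  | f :: l => (mappingCone.snd (mul f l)).v 0 0 (add_zero 0) ≫ t0 l

theorem t0_e0 : ∀ l : List R, ((t0 l).hom (e0 l) : R) = 1
  | [] => by
    change ((HomologicalComplex.singleObjXSelf (ComplexShape.up ℤ) 0 (ModuleCat.of R R)).inv ≫
      (HomologicalComplex.singleObjXSelf (ComplexShape.up ℤ) 0 (ModuleCat.of R R)).hom).hom (1 : R) = 1
    rw [Iso.inv_hom_id]
    rfl
  | f :: l => by
    change ((mappingCone.inr (mul f l)).f 0 ≫ (mappingCone.snd (mul f l)).v 0 0 (add_zero 0) ≫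
      t0 l).hom (e0 l) = 1
    rw [mappingCone.inr_f_snd_v_assoc]
    exact t0_e0 l

theorem eq_smul_e0 : ∀ (l : List R) (x : (K l).X 0), x = ((t0 l).hom x : R) • e0 l
  | [], x => by
    let e := (HomologicalComplex.singleObjXSelf (ComplexShape.up ℤ) 0 (ModuleCat.of R R))
    change x = (e.hom.hom x : R) • e.inv.hom (1 : R)
    rw [← map_smul, smul_eq_mul, mul_one]
    exact (ConcreteCategory.congr_hom e.hom_inv_id x).symm
  | f :: l, x => by
    have hid := ConcreteCategory.congr_hom (mappingCone.id_X (mul f l) 0 1 rfl) x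
    have hz : ((mappingCone.fst (mul f l)).1.v 0 1 rfl).hom x = 0 := by
      have := ModuleCat.subsingleton_of_isZero
        (CochainComplex.isZero_of_isStrictlyLE (K l) 0 1 (by omega))
      exact Subsingleton.elim _ _
    simp only [ModuleCat.hom_add, ModuleCat.hom_comp, LinearMap.add_apply, LinearMap.comp_apply,
      ModuleCat.hom_id, LinearMap.id_apply] at hid
    rw [hz, map_zero, zero_add] at hid
    conv_lhs => rw [← hid, eq_smul_e0 l (((mappingCone.snd (mul f l)).v 0 0 (add_zero 0)).hom x),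
      map_smul]
    rfl

/-- All differentials have entries in the ideal generated by the sequence. -/
theorem d_mem : ∀ (l : List R) (i j : ℤ) (x : (K l).X i),
    ((K l).d i j).hom x ∈ Ideal.ofList l • (⊤ : Submodule R ((K l).X j))
  | [], i, j, x => by
    have : (K ([] : List R)).d i j = 0 := HomologicalComplex.single_obj_d ..
    rw [this]
    exact Submodule.zero_mem _
  | f :: l, i, j, x => by
    rw [Ideal.ofList_cons]
    exact cone_d_mem f (Ideal.ofList l) (d_mem l) i j x

/-- Multiples of the degree zero generator by the ideal are boundaries. -/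
theorem exists_boundary : ∀ (l : List R) (a : R), a ∈ Ideal.ofList l →
    ∃ y, ((K l).d (-1) 0).hom y = a • e0 l
  | [], a, ha => ⟨0, by simp_all [Ideal.ofList_nil]⟩
  | f :: l, a, ha => by
    rw [Ideal.ofList_cons] at ha
    obtain ⟨b, hb, v, hv, rfl⟩ := Submodule.mem_sup.1 ha
    obtain ⟨c, rfl⟩ := Ideal.mem_span_singleton'.1 hb
    exact cone_boundary f c v (e0 l) (CochainComplex.isZero_of_isStrictlyLE (K l) 0 1 (by omega))
      (exists_boundary l v hv)

/-- The product `∑ gᵢ uᵢ`. -/
def dot : List R → (ℕ → R) → R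
  | [], _ => 0
  | g :: gs, u => g * u 0 + dot gs (fun i => u (i + 1))

/-- The exterior multiplication by `u`. -/
noncomputable def Lop : ∀ (g : List R) (_ : ℕ → R), Cochain (K g) (K g) (-1)
  | [], _ => 0
  | g :: gs, u => coneOp g (u 0) (Lop gs fun i => u (i + 1))

theorem δ_Lop : ∀ (g : List R) (u : ℕ → R),
    δ (-1) 0 (Lop g u) = dot g u • Cochain.ofHom (𝟙 (K g))
  | [], u => by simp [Lop, dot]
  | g :: gs, u => δ_coneOp g (u 0) _ _ (δ_Lop gs fun i => u (i + 1))

theorem Lop_add : ∀ (g : List R) (u v : ℕ → R), Lop g (u + v) = Lop g u + Lop g v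
  | [], u, v => (add_zero _).symm
  | g :: gs, u, v => by
    change coneOp g (u 0 + v 0) (Lop gs ((fun i => u (i + 1)) + fun i => v (i + 1))) = _
    rw [Lop_add gs]
    exact coneOp_add ..

theorem Lop_smul : ∀ (g : List R) (c : R) (u : ℕ → R), Lop g (c • u) = c • Lop g u
  | [], c, u => (smul_zero _).symm
  | g :: gs, c, u => by
    change coneOp g (c * u 0) (Lop gs (c • fun i => u (i + 1))) = _
    rw [Lop_smul gs]
    exact coneOp_smul ..

theorem Lop_sq : ∀ (g : List R) (u : ℕ → R),
    (Lop g u).comp (Lop g u) (show (-1 : ℤ) + -1 = -2 by norm_num) = 0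
  | [], u => Cochain.zero_comp _ _
  | g :: gs, u => coneOp_sq g (u 0) _ (Lop_sq gs fun i => u (i + 1))

/-- The list of values of `c` on the sequence `g`. -/
def lst (g : List R) : ∀ m, (Fin m → ℕ → R) → List R
  | 0, _ => []
  | m + 1, c => dot g (c 0) :: lst g m (Fin.tail c)

theorem desc_eq (g : List R) (u : ℕ → R) (l : List R) (φ : K l ⟶ K g) :
    δ (-1) 0 ((Cochain.ofHom φ).comp (Lop g u) (zero_add (-1))) =
      Cochain.ofHom (mul (dot g u) l ≫ φ) := by
  rw [δ_ofHom_comp, δ_Lop]
  simp [mul, ofHom_smul']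

/-- The map of Koszul complexes induced by a linear change of sequence. -/
noncomputable def Phi (g : List R) : ∀ m (c : Fin m → ℕ → R),
    { φ : K (lst g m c) ⟶ K g // (φ.f 0).hom (e0 (lst g m c)) = e0 g }
  | 0, _ => ⟨HomologicalComplex.mkHomFromSingle
      (ModuleCat.ofHom (LinearMap.toSpanSingleton R _ (e0 g))) (fun k hk => by
        have := CochainComplex.isZero_of_isStrictlyLE (K g) 0 k (by simp at hk; omega)
        exact this.eq_of_tgt _ _), by
      rw [HomologicalComplex.mkHomFromSingle_f]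
      exact (ConcreteCategory.congr_hom (Iso.inv_hom_id_assoc
        (HomologicalComplex.singleObjXSelf (ComplexShape.up ℤ) (0 : ℤ) (ModuleCat.of R R))
        (ModuleCat.ofHom (LinearMap.toSpanSingleton R _ (e0 g)))) (1 : R)).trans (one_smul R _)⟩
  | m + 1, c =>
    ⟨mappingCone.desc _ ((Cochain.ofHom (Phi g m (Fin.tail c)).1).comp (Lop g (c 0)) (zero_add _))
      (Phi g m (Fin.tail c)).1 (desc_eq g (c 0) _ (Phi g m (Fin.tail c)).1), by
      exact (ConcreteCategory.congr_hom (mappingCone.inr_f_desc_f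
        (mul (dot g (c 0)) (lst g m (Fin.tail c))) _ (Phi g m (Fin.tail c)).1
        (desc_eq g (c 0) _ (Phi g m (Fin.tail c)).1) 0)
          (e0 (lst g m (Fin.tail c)))).trans (Phi g m (Fin.tail c)).2⟩

/-- The top generator. -/
noncomputable def etop (g : List R) : ∀ m (c : Fin m → ℕ → R), (K (lst g m c)).X (-(m : ℤ))
  | 0, _ => e0 (R := R) []
  | m + 1, c => ((mappingCone.inl (mul (dot g (c 0)) (lst g m (Fin.tail c)))).v (-(m : ℤ))
      (-((m + 1 : ℕ) : ℤ)) (by push_cast; ring)).hom (etop g m (Fin.tail c))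

/-- The top coordinate. -/
noncomputable def ttop (g : List R) : ∀ m (c : Fin m → ℕ → R),
    (K (lst g m c)).X (-(m : ℤ)) ⟶ ModuleCat.of R R
  | 0, _ => t0 (R := R) []
  | m + 1, c => (mappingCone.fst (mul (dot g (c 0)) (lst g m (Fin.tail c)))).1.v
      (-((m + 1 : ℕ) : ℤ)) (-(m : ℤ)) (by push_cast; ring) ≫ ttop g m (Fin.tail c)

theorem ttop_etop (g : List R) : ∀ m (c : Fin m → ℕ → R),
    ((ttop g m c).hom (etop g m c) : R) = 1
  | 0, _ => t0_e0 []
  | m + 1, c => by
    exact (ConcreteCategory.congr_hom (mappingCone.inl_v_fst_v_assoc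
      (mul (dot g (c 0)) (lst g m (Fin.tail c))) (-(m : ℤ)) (-((m + 1 : ℕ) : ℤ))
      (by push_cast; ring) (ttop g m (Fin.tail c))) (etop g m (Fin.tail c))).trans
        (ttop_etop g m (Fin.tail c))

/-- Iterated exterior products. -/
noncomputable def wedge (g : List R) : ∀ m (_ : Fin m → ℕ → R), (K g).X (-(m : ℤ))
  | 0, _ => e0 g
  | m + 1, c => ((Lop g (c 0)).v (-(m : ℤ)) (-((m + 1 : ℕ) : ℤ)) (by push_cast; ring)).hom
      (wedge g m (Fin.tail c))

theorem Phi_etop (g : List R) : ∀ m (c : Fin m → ℕ → R),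
    ((Phi g m c).1.f (-(m : ℤ))).hom (etop g m c) = wedge g m c
  | 0, c => (Phi g 0 c).2
  | m + 1, c => by
    simp only [wedge]
    rw [← Phi_etop g m (Fin.tail c)]
    refine (ConcreteCategory.congr_hom (mappingCone.inl_v_desc_f
      (mul (dot g (c 0)) (lst g m (Fin.tail c))) _ (Phi g m (Fin.tail c)).1
      (desc_eq g (c 0) _ (Phi g m (Fin.tail c)).1) (-(m : ℤ))
      (-((m + 1 : ℕ) : ℤ)) (by push_cast; ring)) (etop g m (Fin.tail c))).trans ?_
    rw [Cochain.zero_cochain_comp_v, Cochain.ofHom_v]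
    rfl

end Groth.Agent.KoszulWiebe
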