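/-
Wiebe's colon ideal lemma: if `f = C g` and `f` is Koszul-regular then every `x` with
`x (g) ⊆ (f)` lies in `(f, det C)`.
-/
import Groth.Agent.KoszulWiebe.Kos
import Mathlib.Algebra.Homology.DerivedCategory.KProjective
import Mathlib.Algebra.Homology.SingleHomology
import Mathlib.Algebra.Homology.Refinements
import Mathlib.Algebra.Homology.ShortComplex.ModuleCat
import Mathlib.CategoryTheory.Abelian.Refinements
import Mathlib.LinearAlgebra.Determinant
import Mathlib.LinearAlgebra.Matrix.Determinant.Basic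

open CategoryTheory Limits CochainComplex HomComplex HomologicalComplex

universe u

namespace Groth.Agent.KoszulWiebe

variable {R : Type u} [CommRing R]

local notation "K" => Koszul.koszul R

/-- Exterior multiplication on elements. -/
noncomputable def lapp (g : List R) (u : ℕ → R) (p q : ℤ) (h : p + -1 = q) :
    (K g).X p →ₗ[R] (K g).X q := ((Lop g u).v p q h).hom

theorem lapp_add (g : List R) (u v : ℕ → R) (p q : ℤ) (h : p + -1 = q) (x : (K g).X p) :
    lapp g (u + v) p q h x = lapp g u p q h x + lapp g v p q h x := by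
  simp [lapp, Lop_add]

theorem lapp_smul (g : List R) (a : R) (u : ℕ → R) (p q : ℤ) (h : p + -1 = q) (x : (K g).X p) :
    lapp g (a • u) p q h x = a • lapp g u p q h x := by
  simp [lapp, Lop_smul]

theorem lapp_sq (g : List R) (u : ℕ → R) (p q r : ℤ) (h : p + -1 = q) (h' : q + -1 = r)
    (x : (K g).X p) : lapp g u q r h' (lapp g u p q h x) = 0 := by
  have h2 := Cochain.congr_v (Lop_sq g u) p r (by omega)
  rw [Cochain.comp_v _ _ (show (-1 : ℤ) + -1 = -2 by norm_num) p q r h h'] at h2
  exact ConcreteCategory.congr_hom h2 x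

theorem lapp_swap (g : List R) (u v : ℕ → R) (p q r : ℤ) (h : p + -1 = q) (h' : q + -1 = r)
    (x : (K g).X p) :
    lapp g u q r h' (lapp g v p q h x) = -lapp g v q r h' (lapp g u p q h x) := by
  have h0 := lapp_sq g (u + v) p q r h h' x
  rw [lapp_add, lapp_add, map_add, map_add, lapp_sq, lapp_sq, zero_add, add_zero] at h0
  exact eq_neg_of_add_eq_zero_left h0

theorem wedge_succ (g : List R) (m : ℕ) (c : Fin (m + 1) → ℕ → R) :
    wedge g (m + 1) c = lapp g (c 0) (-(m : ℤ)) (-((m + 1 : ℕ) : ℤ)) (by push_cast; ring)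
      (wedge g m (Fin.tail c)) := rfl

theorem wedge_update_add (g : List R) : ∀ m (c : Fin m → ℕ → R) (i : Fin m) (x y : ℕ → R),
    wedge g m (Function.update c i (x + y)) =
      wedge g m (Function.update c i x) + wedge g m (Function.update c i y)
  | 0, _, i, _, _ => i.elim0
  | m + 1, c, i, x, y => by
    induction i using Fin.cases with
    | zero => simp [wedge_succ, lapp_add, Fin.tail_update_zero]
    | succ i =>
      rw [wedge_succ, wedge_succ, wedge_succ, Fin.tail_update_succ, Fin.tail_update_succ,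
        Fin.tail_update_succ, wedge_update_add g m (Fin.tail c) i x y, map_add]
      simp [(Fin.succ_ne_zero i).symm]

theorem wedge_update_smul (g : List R) : ∀ m (c : Fin m → ℕ → R) (i : Fin m) (a : R) (x : ℕ → R),
    wedge g m (Function.update c i (a • x)) = a • wedge g m (Function.update c i x)
  | 0, _, i, _, _ => i.elim0
  | m + 1, c, i, a, x => by
    induction i using Fin.cases with
    | zero => simp [wedge_succ, lapp_smul, Fin.tail_update_zero]
    | succ i =>
      rw [wedge_succ, wedge_succ, Fin.tail_update_succ, Fin.tail_update_succ,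
        wedge_update_smul g m (Fin.tail c) i a x, map_smul]
      simp [(Fin.succ_ne_zero i).symm]

theorem wedge_absorb (g : List R) : ∀ m (c : Fin m → ℕ → R) (i : Fin m) (q : ℤ)
    (hq : -(m : ℤ) + -1 = q), lapp g (c i) _ q hq (wedge g m c) = 0
  | 0, _, i, _, _ => i.elim0
  | m + 1, c, i, q, hq => by
    rw [wedge_succ]
    induction i using Fin.cases with
    | zero => exact lapp_sq ..
    | succ i =>
      rw [lapp_swap, show c i.succ = Fin.tail c i from rfl,
        wedge_absorb g m (Fin.tail c) i _ (by push_cast; ring), map_zero, neg_zero]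

theorem wedge_eq_zero (g : List R) : ∀ m (c : Fin m → ℕ → R) (i j : Fin m),
    c i = c j → i ≠ j → wedge g m c = 0
  | 0, _, i, _, _, _ => i.elim0
  | m + 1, c, i, j, h, hne => by
    rw [wedge_succ]
    induction i using Fin.cases with
    | zero =>
      induction j using Fin.cases with
      | zero => exact absurd rfl hne
      | succ j => rw [h]; exact wedge_absorb g m (Fin.tail c) j _ _
    | succ i =>
      induction j using Fin.cases with
      | zero => rw [← h]; exact wedge_absorb g m (Fin.tail c) i _ _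
      | succ j =>
        rw [wedge_eq_zero g m (Fin.tail c) i j h (fun e => hne (congrArg Fin.succ e)), map_zero]

/-- Padding a finite family by zero. -/
def pad {n : ℕ} : (Fin n → R) →ₗ[R] (ℕ → R) where
  toFun v i := if h : i < n then v ⟨i, h⟩ else 0
  map_add' v w := by ext i; simp only [Pi.add_apply]; split_ifs <;> simp
  map_smul' a v := by ext i; simp only [Pi.smul_apply, RingHom.id_apply]; split_ifs <;> simp

theorem dot_pad : ∀ {n : ℕ} (g v : Fin n → R), dot (List.ofFn g) (pad v) = ∑ j, g j * v j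
  | 0, g, v => by simp [dot]
  | n + 1, g, v => by
    rw [List.ofFn_succ, Fin.sum_univ_succ, dot]
    congr 1
    · have e : (fun i => pad v (i + 1)) = pad (fun i : Fin n => v i.succ) := by
        ext i
        simp [pad, Fin.succ_mk]
      rw [e, dot_pad]

theorem lst_eq (g : List R) : ∀ m (c : Fin m → ℕ → R),
    lst g m c = List.ofFn fun i => dot g (c i)
  | 0, _ => rfl
  | m + 1, c => by rw [lst, lst_eq g m, List.ofFn_succ]; rfl

/-- The alternating form obtained from a functional on the top degree. -/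
noncomputable def altForm {n : ℕ} (g : List R) (ψ : (K g).X (-(n : ℤ)) →ₗ[R] R) :
    (Fin n → R) [⋀^Fin n]→ₗ[R] R where
  toFun v := ψ (wedge g n fun i => pad (v i))
  map_update_add' := by
    intro inst v i x y
    obtain rfl : inst = instDecidableEqFin n := Subsingleton.elim _ _
    have e : ∀ z, (fun j => pad (Function.update v i z j)) =
        Function.update (fun j => pad (v j)) i (pad z) := fun z => by
      ext1 j; exact Function.apply_update (fun _ => pad) v i z j
    simp only [e, map_add, wedge_update_add]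
  map_update_smul' := by
    intro inst v i a x
    obtain rfl : inst = instDecidableEqFin n := Subsingleton.elim _ _
    have e : ∀ z, (fun j => pad (Function.update v i z j)) =
        Function.update (fun j => pad (v j)) i (pad z) := fun z => by
      ext1 j; exact Function.apply_update (fun _ => pad) v i z j
    simp only [e, map_smul, wedge_update_smul, smul_eq_mul]
  map_eq_zero_of_eq' v i j h hne := by
    rw [wedge_eq_zero g n _ i j (by rw [h]) hne, map_zero]

theorem det_dvd_wedge {n : ℕ} (g : List R) (ψ : (K g).X (-(n : ℤ)) →ₗ[R] R)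
    (C : Matrix (Fin n) (Fin n) R) :
    C.det ∣ ψ (wedge g n fun i => pad (C i)) := by
  refine ⟨altForm g ψ (Pi.basisFun R (Fin n)), ?_⟩
  have := congrArg (fun f : (Fin n → R) [⋀^Fin n]→ₗ[R] R => f (fun i => C i))
    ((altForm g ψ).eq_smul_basis_det (Pi.basisFun R (Fin n)))
  simp only [AlternatingMap.smul_apply, Pi.basisFun_det, smul_eq_mul] at this
  rw [mul_comm C.det]
  exact this

section Single

variable {M : ModuleCat.{u} R}

theorem hom_single_ext (l : List R) {φ ψ : K l ⟶ (single (ModuleCat.{u} R) (ComplexShape.up ℤ) 0).obj M}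
    (h : (φ.f 0).hom (e0 l) = (ψ.f 0).hom (e0 l)) : φ = ψ := by
  refine to_single_hom_ext ?_
  ext x
  rw [eq_smul_e0 l x, map_smul, map_smul]
  exact congrArg _ h

end Single

theorem Q_map_bijective {A B : CochainComplex (ModuleCat.{u} R) ℤ} [HasDerivedCategory (ModuleCat.{u} R)]
    [A.IsKProjective] :
    (∀ φ : DerivedCategory.Q.obj A ⟶ DerivedCategory.Q.obj B,
      ∃ a : A ⟶ B, DerivedCategory.Q.map a = φ) ∧
    (∀ a b : A ⟶ B, DerivedCategory.Q.map a = DerivedCategory.Q.map b →
      Nonempty (Homotopy a b)) := by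
  let q := HomotopyCategory.quotient (ModuleCat.{u} R) (ComplexShape.up ℤ)
  let e := DerivedCategory.quotientCompQhIso (ModuleCat.{u} R)
  have hb := CochainComplex.IsKProjective.Qh_map_bijective A (q.obj B)
  have nat : ∀ a : A ⟶ B, DerivedCategory.Qh.map (q.map a) =
      e.hom.app A ≫ DerivedCategory.Q.map a ≫ e.inv.app B := fun a => by
    rw [← NatTrans.naturality_assoc, Iso.hom_inv_id_app, Category.comp_id]
    rfl
  constructor
  · intro φ
    obtain ⟨b, hb'⟩ := hb.2 (e.hom.app A ≫ φ ≫ e.inv.app B)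
    obtain ⟨a, rfl⟩ := q.map_surjective b
    rw [nat] at hb'
    exact ⟨a, (cancel_mono (e.inv.app B)).1 ((cancel_epi (e.hom.app A)).1 hb')⟩
  · intro a b h
    exact ⟨HomotopyCategory.homotopyOfEq _ _ (hb.1 (by rw [nat, nat, h]))⟩

/-- The augmentation of the Koszul complex. -/
noncomputable def augment (l : List R) (I : Ideal R) (x : R)
    (hx : ∀ a ∈ Ideal.ofList l, x * a ∈ I) :
    K l ⟶ (single (ModuleCat.{u} R) (ComplexShape.up ℤ) 0).obj (ModuleCat.of R (R ⧸ I)) :=
  mkHomToSingle (t0 l ≫ ModuleCat.ofHom ((x • Submodule.mkQ (I : Submodule R R)))) (fun i hi => by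
    ext y
    have hy := d_mem l i 0 y
    have h1 : ((t0 l).hom (((K l).d i 0).hom y) : R) ∈ Ideal.ofList l := by
      have := Submodule.smul_top_le_comap_smul_top (Ideal.ofList l) (t0 l).hom hy
      simpa using this
    change x • Submodule.mkQ (I : Submodule R R) ((t0 l).hom (((K l).d i 0).hom y)) = 0
    rw [← map_smul]
    exact (Submodule.Quotient.mk_eq_zero _).2 (hx _ h1))

theorem augment_e0 (l : List R) (I : Ideal R) (x : R) (hx : ∀ a ∈ Ideal.ofList l, x * a ∈ I) :
    ((augment l I x hx).f 0).hom (e0 l) =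
      (singleObjXSelf (ComplexShape.up ℤ) 0 (ModuleCat.of R (R ⧸ I))).inv.hom (Ideal.Quotient.mk I x) := by
  simp only [augment, mkHomToSingle_f]
  change (singleObjXSelf (ComplexShape.up ℤ) 0 (ModuleCat.of R (R ⧸ I))).inv.hom
    (x • Submodule.mkQ (I : Submodule R R) ((t0 l).hom (e0 l))) = _
  rw [t0_e0, ← map_smul, smul_eq_mul, mul_one]
  rfl

theorem quasiIso_augment (l : List R) (hl : ∀ i : ℤ, i ≠ 0 → IsZero ((K l).homology i)) :
    QuasiIso (augment l (Ideal.ofList l) 1 (fun a ha => by simpa using ha)) := by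
  let π := augment l (Ideal.ofList l) 1 (fun a ha => by simpa using ha)
  refine ⟨fun i => ?_⟩
  by_cases hi : i = 0
  · subst hi
    rw [quasiIsoAt_iff_isIso_homologyMap]
    let S : ShortComplex (ModuleCat.{u} R) := ShortComplex.mk ((K l).d (-1) 0) (π.f 0)
      (by rw [← π.comm, single_obj_d, comp_zero])
    have hS : S.Exact := by
      rw [ShortComplex.moduleCat_exact_iff]
      intro x hx
      have hx' : (π.f 0).hom x = 0 := hx
      rw [eq_smul_e0 l x, map_smul, augment_e0, ← map_smul] at hx'
      have hx'' := congrArg (singleObjXSelf (ComplexShape.up ℤ) (0 : ℤ)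
        (ModuleCat.of R (R ⧸ Ideal.ofList l))).hom.hom hx'
      rw [← LinearMap.comp_apply, ← ModuleCat.hom_comp, Iso.inv_hom_id, map_zero] at hx''
      have ha : ((t0 l).hom x : R) ∈ Ideal.ofList l :=
        Ideal.Quotient.eq_zero_iff_mem.1 (by simpa [Algebra.smul_def] using hx'')
      obtain ⟨y, hy⟩ := exists_boundary l _ ha
      exact ⟨y, hy.trans (eq_smul_e0 l x).symm⟩
    have hepi : Epi (π.f 0) := by
      rw [ModuleCat.epi_iff_surjective]
      intro z
      obtain ⟨a, ha⟩ := Ideal.Quotient.mk_surjective ((singleObjXSelf (ComplexShape.up ℤ) (0 : ℤ)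
        (ModuleCat.of R (R ⧸ Ideal.ofList l))).hom.hom z)
      refine ⟨a • e0 l, ?_⟩
      rw [map_smul, augment_e0, ← map_smul]
      have : (a • (Ideal.Quotient.mk (Ideal.ofList l)) 1 : R ⧸ Ideal.ofList l) =
          Ideal.Quotient.mk (Ideal.ofList l) a := by simp [Algebra.smul_def]
      rw [this, ha, ← LinearMap.comp_apply, ← ModuleCat.hom_comp, Iso.hom_inv_id]
      rfl
    have : Mono (homologyMap π 0) := by
      rw [mono_homologyMap_iff_up_to_refinements _ (-1) 0 1 (by simp) (by simp)]
      intro T x₂ _ y₁ hy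
      exact hS.exact_up_to_refinements x₂ (by
        rw [single_obj_d, comp_zero] at hy
        exact hy)
    have : Epi (homologyMap π 0) := by
      rw [epi_homologyMap_iff_up_to_refinements _ (-1) 0 1 (by simp) (by simp)]
      intro T y _
      obtain ⟨T', p, hp, x, hx⟩ := surjective_up_to_refinements_of_epi (π.f 0) y
      exact ⟨T', p, hp, x,
        ((CochainComplex.isZero_of_isStrictlyLE (K l) 0 1 (by omega)).eq_of_tgt _ _), 0,
        by rw [hx, zero_comp, add_zero]⟩
    exact isIso_of_mono_of_epi _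
  · rw [quasiIsoAt_iff_exactAt]
    · exact exactAt_single_obj _ _ _ _ hi
    · exact ((K l).exactAt_iff_isZero_homology i).2 (hl i hi)

attribute [local instance] HasDerivedCategory.standard in
theorem mem_sup_det_of_list (g : List R) {n : ℕ} (C : Matrix (Fin n) (Fin n) R)
    (hf : ∀ i : ℤ, i ≠ 0 → IsZero ((K (lst g n fun i => pad (C i))).homology i)) (x : R)
    (hx : ∀ a ∈ Ideal.ofList g, x * a ∈ Ideal.ofList (lst g n fun i => pad (C i))) :
    x ∈ Ideal.ofList (lst g n fun i => pad (C i)) ⊔ Ideal.span {C.det} := by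
  let c : Fin n → ℕ → R := fun i => pad (C i)
  let f := lst g n c
  let I := Ideal.ofList f
  let π := augment f I 1 (fun a ha => by simpa using ha)
  have hπ : QuasiIso π := quasiIso_augment f hf
  have : (K g).IsKProjective := CochainComplex.isKProjective_of_projective (K g) 0
  have : (K f).IsKProjective := CochainComplex.isKProjective_of_projective (K f) 0
  let γ := augment g I x hx
  obtain ⟨α, hα⟩ := (Q_map_bijective (A := K g) (B := K f)).1
    (DerivedCategory.Q.map γ ≫ inv (DerivedCategory.Q.map π))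
  obtain ⟨Φ, hΦ⟩ : ∃ Φ : K f ⟶ K g, (Φ.f 0).hom (e0 f) = e0 g ∧
      (Φ.f (-(n : ℤ))).hom (etop g n c) = wedge g n c :=
    ⟨(Phi g n c).1, (Phi g n c).2, Phi_etop g n c⟩
  obtain ⟨h₁⟩ := (Q_map_bijective (A := K g)).2 (α ≫ π) γ (by
    rw [Functor.map_comp, hα, Category.assoc, IsIso.inv_hom_id, Category.comp_id])
  have h₂ : α ≫ π = γ := by
    refine to_single_hom_ext ?_
    rw [h₁.comm 0, dNext_eq _ (show (ComplexShape.up ℤ).Rel (0 : ℤ) (0 + 1) from rfl),
      prevD_eq _ (show (ComplexShape.up ℤ).Rel (-1 : ℤ) 0 by simp),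
      (CochainComplex.isZero_of_isStrictlyLE (K g) 0 (0 + 1) (by omega)).eq_of_tgt ((K g).d 0 (0 + 1)) 0,
      single_obj_d, zero_comp, comp_zero, zero_add, zero_add]
  have h₃ : (Φ ≫ α) ≫ π = (x • 𝟙 (K f)) ≫ π := by
    refine hom_single_ext f ?_
    have l1 : (((Φ ≫ α) ≫ π).f 0).hom (e0 f) = (γ.f 0).hom (e0 g) := by
      rw [Category.assoc, h₂, HomologicalComplex.comp_f, ModuleCat.hom_comp, LinearMap.comp_apply,
        hΦ.1]
    rw [l1, Linear.smul_comp, Category.id_comp, HomologicalComplex.smul_f_apply, ModuleCat.hom_smul,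
      LinearMap.smul_apply, augment_e0, augment_e0, ← map_smul]
    congr 1
    simp [Algebra.smul_def]
  obtain ⟨H⟩ := (Q_map_bijective (A := K f)).2 (Φ ≫ α) (x • 𝟙 (K f)) (by
    rw [← cancel_mono (DerivedCategory.Q.map π), ← Functor.map_comp, ← Functor.map_comp, h₃])
  let e := etop g n c
  let t := (ttop g n c).hom
  have htop := ConcreteCategory.congr_hom (H.comm (-(n : ℤ))) e
  rw [dNext_eq _ (show (ComplexShape.up ℤ).Rel (-(n : ℤ)) (-(n : ℤ) + 1) from rfl),
    prevD_eq _ (show (ComplexShape.up ℤ).Rel (-(n : ℤ) - 1) (-(n : ℤ)) by simp)] at htop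
  have hmem : ∀ z : (K f).X (-(n : ℤ)), z ∈ I • (⊤ : Submodule R ((K f).X (-(n : ℤ)))) →
      (t z : R) ∈ I := fun z hz => by
    simpa using Submodule.smul_top_le_comap_smul_top I t hz
  have hA : (t (((Φ ≫ α).f (-(n : ℤ))).hom e) : R) ∈ Ideal.span {C.det} := by
    rw [HomologicalComplex.comp_f, ModuleCat.hom_comp, LinearMap.comp_apply, hΦ.2]
    exact Ideal.mem_span_singleton.2 (det_dvd_wedge g (t.comp (α.f (-(n : ℤ))).hom) C)
  have hB : (t (((x • 𝟙 (K f)).f (-(n : ℤ))).hom e) : R) = x := by
    rw [HomologicalComplex.smul_f_apply]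
    change (t (x • e) : R) = x
    rw [map_smul]
    exact (congrArg (x * ·) (ttop_etop g n c)).trans (mul_one x)
  have hC : (t (((Φ ≫ α).f (-(n : ℤ))).hom e) : R) - t (((x • 𝟙 (K f)).f (-(n : ℤ))).hom e) ∈ I := by
    rw [← map_sub]
    refine hmem _ ?_
    rw [show ((Φ ≫ α).f (-(n : ℤ))).hom e - ((x • 𝟙 (K f)).f (-(n : ℤ))).hom e =
      (H.hom (-(n : ℤ) + 1) (-(n : ℤ))).hom (((K f).d (-(n : ℤ)) (-(n : ℤ) + 1)).hom e) +
        ((K f).d (-(n : ℤ) - 1) (-(n : ℤ))).hom ((H.hom (-(n : ℤ)) (-(n : ℤ) - 1)).hom e) by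
      rw [sub_eq_iff_eq_add]; simpa using htop]
    exact Submodule.add_mem _
      (Submodule.smul_top_le_comap_smul_top I _ (d_mem f _ _ _)) (d_mem f _ _ _)
  rw [hB] at hC
  obtain ⟨d, hd⟩ := Ideal.mem_span_singleton.1 hA
  rw [Submodule.mem_sup]
  exact ⟨_, I.neg_mem hC, _, hA, by ring⟩

theorem mem_sup_det {n : ℕ} (f g : Fin n → R) (C : Matrix (Fin n) (Fin n) R)
    (hC : ∀ i, f i = ∑ j, C i j * g j)
    (hf : ∀ i : ℤ, i ≠ 0 → IsZero ((K (List.ofFn f)).homology i)) (x : R)
    (hx : ∀ j, x * g j ∈ Ideal.span (Set.range f)) :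
    x ∈ Ideal.span (Set.range f) ⊔ Ideal.span {C.det} := by
  have hl : (lst (List.ofFn g) n fun i => pad (C i)) = List.ofFn f := by
    rw [lst_eq]
    congr 1
    ext i
    rw [dot_pad, hC]
    exact Finset.sum_congr rfl fun j _ => mul_comm _ _
  have hI : ∀ h : Fin n → R, Ideal.ofList (List.ofFn h) = Ideal.span (Set.range h) := fun h => by
    ext; simp [Ideal.ofList, Set.range, List.mem_ofFn]
  have := mem_sup_det_of_list (List.ofFn g) C (by rw [hl]; exact hf) x (by
    intro a ha
    rw [hl, hI]
    rw [hI] at ha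
    refine Submodule.span_induction (fun y hy => ?_) (by simp) (fun y z _ _ hy hz => ?_)
      (fun r y _ hy => ?_) ha
    · obtain ⟨j, rfl⟩ := hy
      exact hx j
    · rw [mul_add]; exact Ideal.add_mem _ hy hz
    · rw [smul_eq_mul, mul_left_comm]; exact Ideal.mul_mem_left _ r hy)
  rwa [hl, hI] at this

end Groth.Agent.KoszulWiebe
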