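/-
Regular sequences are Koszul-regular; complete intersection points of affine space.
-/
import Groth.Agent.KoszulWiebe.Wiebe
import Groth.Agent.KosCone.Basic
import Groth.Agent.CMSeq.Basic
import Groth.Agent.CycLib.DimFormula
import Mathlib.RingTheory.RegularLocalRing.Polynomial

open CategoryTheory Limits RingTheory.Sequence IsLocalRing

universe u

namespace Groth.Agent.KoszulWiebe

variable {R : Type u} [CommRing R]

theorem acyclic_of_isWeaklyRegular_reverse : ∀ l : List R, IsWeaklyRegular R l.reverse →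
    ∀ i : ℤ, i ≠ 0 → IsZero ((Koszul.koszul R l).homology i)
  | [], _, i, hi => ((Koszul.koszul R ([] : List R)).exactAt_iff_isZero_homology i).1
      (HomologicalComplex.exactAt_single_obj _ _ _ _ hi)
  | f :: l, h, i, hi => by
    rw [List.reverse_cons, isWeaklyRegular_append_iff] at h
    have ih := acyclic_of_isWeaklyRegular_reverse l h.1
    have hz : ∀ j : ℤ, j ≠ 0 → ∀ y : (Koszul.koszul R l).homology j, y = 0 := fun j hj y => by
      have := ModuleCat.subsingleton_of_isZero (ih j hj)
      exact Subsingleton.elim _ _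
    have hreg : ∀ a, f * a ∈ Ideal.ofList l → a ∈ Ideal.ofList l := by
      have h2 := ((isWeaklyRegular_cons_iff _ _ _).1 h.2).1
      rw [isSMulRegular_quotient_iff_mem_of_smul_mem] at h2
      intro a ha
      have e : Ideal.ofList l.reverse = Ideal.ofList l := by
        simp [Ideal.ofList, List.mem_reverse]
      simpa [e] using h2 a (by simpa [e] using ha)
    refine @ModuleCat.isZero_of_subsingleton _ _ _ ⟨fun x x' => ?_⟩
    suffices h0 : ∀ x : (Koszul.koszul R (f :: l)).homology i, x = 0 by rw [h0 x, h0 x']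
    clear x x'
    intro x
    rcases lt_or_gt_of_ne hi with hneg | hpos
    · have hd : KosCone.Basic.δ f l i (i + 1) rfl x = 0 := by
        by_cases h1 : i + 1 = 0
        · have hfd : f • KosCone.Basic.δ f l i (i + 1) rfl x = 0 :=
            (KosCone.Basic.smul_eq_zero_iff f l i (i + 1) rfl _).2 ⟨x, rfl⟩
          have key : ∀ (j : ℤ), j = 0 → ∀ y : (Koszul.koszul R l).homology j,
              f • y = 0 → y = 0 := by
            rintro j rfl y hy
            obtain ⟨π, hπ, hk⟩ := KosCone.Basic.exists_toH0 l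
            obtain ⟨a, rfl⟩ := hπ y
            rw [← map_smul, ← LinearMap.mem_ker, hk] at hy
            rw [← LinearMap.mem_ker, hk]
            exact hreg a hy
          exact key _ h1 _ hfd
        · exact hz _ h1 _
      obtain ⟨y, rfl⟩ := (KosCone.Basic.δ_eq_zero_iff f l i (i + 1) rfl x).1 hd
      rw [hz i hi y, map_zero]
    · exact KosCone.Basic.homology_eq_zero _ i (Or.inl hpos) x

open MvPolynomial in
/-- At an isolated point of `f = 0` with `f = C (X - a)`, the determinant is not in `(f)`. -/
theorem det_notMem {k : Type u} [Field k] {n : ℕ} (a : Fin n → k)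
    (f : Fin n → MvPolynomial (Fin n) k)
    (C' : Matrix (Fin n) (Fin n) (MvPolynomial (Fin n) k))
    (hC : ∀ i, f i = ∑ j, C' i j * (X j - C (a j)))
    [Ring.KrullDimLE 0 (MvPolynomial (Fin n) k ⧸ Ideal.span (Set.range f))] :
    C'.det ∉ Ideal.span (Set.range f) := by
  classical
  let P := MvPolynomial (Fin n) k
  let m : Ideal P := RingHom.ker (MvPolynomial.aeval a : P →ₐ[k] k)
  have hm : m.IsMaximal := RingHom.ker_isMaximal_of_surjective _ fun c => ⟨MvPolynomial.C c, by
    rw [MvPolynomial.aeval_C]; rfl⟩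
  let g : Fin n → P := fun j => X j - C (a j)
  have hgm : ∀ j, g j ∈ m := fun j => by
    change MvPolynomial.aeval a (X j - C (a j)) = 0
    rw [map_sub, MvPolynomial.aeval_X, MvPolynomial.aeval_C]
    exact sub_self _
  have hfm : Ideal.span (Set.range f) ≤ m := by
    rw [Ideal.span_le]
    rintro _ ⟨i, rfl⟩
    rw [SetLike.mem_coe, hC]
    exact Ideal.sum_mem _ fun j _ => Ideal.mul_mem_left _ _ (hgm j)
  let R := Localization.AtPrime m
  let φ := algebraMap P R
  let xs := (List.ofFn fun i => φ (f i)).reverse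
  have hxs : Ideal.ofList xs = (Ideal.span (Set.range f)).map φ := by
    rw [Ideal.map_span, ← Set.range_comp]
    ext
    simp [xs, Ideal.ofList, List.mem_ofFn, Set.range]
  have hle : Ideal.ofList xs ≤ maximalIdeal R := by
    rw [hxs, ← IsLocalization.AtPrime.map_eq_maximalIdeal m R]
    exact Ideal.map_mono hfm
  have hrad : maximalIdeal R ≤ (Ideal.ofList xs).radical := by
    rw [Ideal.radical_eq_sInf]
    refine le_sInf fun J hJ => ?_
    obtain ⟨hJle, hJp⟩ := hJ
    have hd := ((IsLocalization.isPrime_iff_isPrime_disjoint m.primeCompl R J).1 hJp)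
    have h1 : Ideal.span (Set.range f) ≤ J.comap φ :=
      (Ideal.map_le_iff_le_comap).1 (hxs ▸ hJle)
    have h2 : J.comap φ ≤ m := by
      intro x hx
      by_contra hxm
      exact hd.2.le_bot ⟨hxm, hx⟩
    have : (J.comap φ).IsPrime := hd.1
    have h3 : (J.comap φ).map (Ideal.Quotient.mk (Ideal.span (Set.range f))) |>.IsMaximal := by
      have : ((J.comap φ).map (Ideal.Quotient.mk (Ideal.span (Set.range f)))).IsPrime :=
        Ideal.map_isPrime_of_surjective Ideal.Quotient.mk_surjective (by rw [Ideal.mk_ker]; exact h1)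
      exact Ring.krullDimLE_zero_iff.1 inferInstance _ this
    have h4 : (J.comap φ).IsMaximal := by
      have := Ideal.comap_isMaximal_of_surjective _ Ideal.Quotient.mk_surjective
        (K := (J.comap φ).map (Ideal.Quotient.mk (Ideal.span (Set.range f))))
      rwa [Ideal.comap_map_of_surjective _ Ideal.Quotient.mk_surjective, ← RingHom.ker_eq_comap_bot,
        Ideal.mk_ker, sup_of_le_left h1] at this
    rw [← IsLocalization.AtPrime.map_eq_maximalIdeal m R]
    exact (Ideal.map_mono (h4.eq_of_le hm.ne_top h2).ge).trans Ideal.map_comap_le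
  have hdim : (xs.length : WithBot ℕ∞) ≤ ringKrullDim R := by
    have hl : m.LiesOver (⊥ : Ideal k) :=
      ⟨((Ideal.eq_bot_or_top (m.under k)).resolve_right (Ideal.IsPrime.ne_top inferInstance)).symm⟩
    have h := CycLib.height_mvPolynomial n k ⊥ m
    have : Algebra.IsAlgebraic (k ⧸ (⊥ : Ideal k)) (P ⧸ m) := ⟨fun x => by
      obtain ⟨y, rfl⟩ := Ideal.Quotient.mk_surjective x
      have : Ideal.Quotient.mk m y =
          algebraMap (k ⧸ (⊥ : Ideal k)) (P ⧸ m) (Ideal.Quotient.mk _ (MvPolynomial.aeval a y)) := by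
        refine Ideal.Quotient.eq.2 ?_
        simp [m, RingHom.mem_ker]
        exact sub_eq_zero.2 rfl
      rw [this]
      exact isAlgebraic_algebraMap _⟩
    rw [trdeg_eq_zero (R := k ⧸ (⊥ : Ideal k)) (A := P ⧸ m), add_zero, Ideal.height_bot,
      Cardinal.ofENat_zero, zero_add, eq_comm, Cardinal.ofENat_eq_nat] at h
    rw [IsLocalization.AtPrime.ringKrullDim_eq_height m R, h]
    simp [xs]
  have : IsRegularLocalRing R := IsRegularRing.isRegularLocalRing_localization m
  have hcm := Depth.isCohenMacaulayLocalRing_of_isRegularLocalRing (R := R)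
  have hwr : IsWeaklyRegular R xs := CMSeq.isWeaklyRegular_of_radical xs R hcm.supportDim_eq_depth hle
    (hrad.trans (Ideal.radical_mono le_sup_right)) (by rwa [Module.supportDim_self_eq_ringKrullDim])
  have hac := acyclic_of_isWeaklyRegular_reverse (List.ofFn fun i => φ (f i)) hwr
  have hspan : Ideal.span (Set.range fun i => φ (f i)) = (Ideal.span (Set.range f)).map φ := by
    rw [Ideal.map_span, ← Set.range_comp]; rfl
  -- a nonzero element killed by the maximal ideal
  obtain ⟨N, hN⟩ := Ideal.exists_pow_le_of_le_radical_of_fg hrad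
    (IsNoetherian.noetherian (maximalIdeal R))
  let Nmin := Nat.find (p := fun N => maximalIdeal R ^ N ≤ Ideal.ofList xs) ⟨N, hN⟩
  have hmin : maximalIdeal R ^ Nmin ≤ Ideal.ofList xs :=
    Nat.find_spec (p := fun N => maximalIdeal R ^ N ≤ Ideal.ofList xs) ⟨N, hN⟩
  have hpos : Nmin ≠ 0 := fun h0 => by
    rw [h0, pow_zero, Ideal.one_eq_top] at hmin
    exact (maximalIdeal.isMaximal R).ne_top (top_le_iff.1 (hmin.trans hle))
  obtain ⟨k', hk'⟩ := Nat.exists_eq_succ_of_ne_zero hpos
  have hnot : ¬ maximalIdeal R ^ k' ≤ Ideal.ofList xs :=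
    Nat.find_min (p := fun N => maximalIdeal R ^ N ≤ Ideal.ofList xs) ⟨N, hN⟩
      (show k' < Nmin by omega)
  obtain ⟨z, hz, hzn⟩ := SetLike.not_le_iff_exists.1 hnot
  have hzmem := mem_sup_det (fun i => φ (f i)) (fun j => φ (g j)) (C'.map φ)
    (fun i => by
      simp only [hC i, map_sum, map_mul, Matrix.map_apply]
      rfl) hac z (fun j => by
      rw [hspan, ← hxs]
      refine hmin ?_
      rw [hk', pow_succ]
      refine Ideal.mul_mem_mul hz ?_
      rw [← IsLocalization.AtPrime.map_eq_maximalIdeal m R]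
      exact Ideal.mem_map_of_mem _ (hgm j))
  intro hdet
  refine hzn ?_
  rw [hxs, ← hspan]
  refine (sup_le le_rfl ?_ : _ ⊔ Ideal.span {(C'.map φ).det} ≤ _) hzmem
  rw [Ideal.span_le, Set.singleton_subset_iff, SetLike.mem_coe, hspan,
    show (C'.map φ).det = φ C'.det from (RingHom.map_det φ C').symm]
  exact Ideal.mem_map_of_mem _ hdet

end Groth.Agent.KoszulWiebe
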