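/-
Koszul regularity is preserved by flat ring maps.
-/
import Groth.Agent.KoszulWiebe.Kos
import Mathlib.Algebra.Category.ModuleCat.Descent
import Mathlib.Algebra.Category.ModuleCat.ChangeOfRings
import Mathlib.Algebra.Homology.Additive
import Mathlib.CategoryTheory.Adjunction.Additive
import Mathlib.CategoryTheory.Preadditive.Biproducts
import Mathlib.CategoryTheory.Limits.Preserves.Shapes.AbelianImages
import Mathlib.RingTheory.Flat.Basic

open CategoryTheory Limits TensorProduct

universe u

namespace Groth.Agent.KoszulWiebe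

variable {P Q : Type u} [CommRing P] [CommRing Q] (φ : P →+* Q)

/-- Extension of scalars. -/
noncomputable abbrev ext : ModuleCat.{u} P ⥤ ModuleCat.{u} Q := ModuleCat.extendScalars.{u, u, u} φ

instance additive_extendScalars : (ext φ).Additive :=
  (ModuleCat.extendRestrictScalarsAdj.{u, u, u} φ).left_adjoint_additive

theorem map_smul_id (f : P) (M : ModuleCat.{u} P) :
    (ext φ).map (f • 𝟙 M) = φ f • 𝟙 ((ext φ).obj M) := by
  apply ModuleCat.ExtendScalars.hom_ext
  intro m
  let := φ.toAlgebra
  change (1 : Q) ⊗ₜ[P] (f • (m : M)) = (φ f * 1) ⊗ₜ[P] (m : M)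
  rw [← TensorProduct.smul_tmul, Algebra.smul_def]
  rfl

/-- Isomorphism of cones from an isomorphism of arrows. -/
theorem nonempty_coneIso {C : Type*} [Category* C] [Preadditive C] [HasBinaryBiproducts C]
    {K K' : CochainComplex C ℤ} (φ₁ : K ⟶ K) (φ₂ : K' ⟶ K') (e : K ≅ K')
    (c : φ₁ ≫ e.hom = e.hom ≫ φ₂) :
    Nonempty (CochainComplex.mappingCone φ₁ ≅ CochainComplex.mappingCone φ₂) :=
  ⟨{ hom := CochainComplex.mappingCone.map _ _ e.hom e.hom c
     inv := CochainComplex.mappingCone.map _ _ e.inv e.inv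
       (by rw [Iso.comp_inv_eq, Category.assoc, c, Iso.inv_hom_id_assoc])
     hom_inv_id := by
       rw [← CochainComplex.mappingCone.map_comp]
       simp only [e.hom_inv_id]
       exact CochainComplex.mappingCone.map_id _
     inv_hom_id := by
       rw [← CochainComplex.mappingCone.map_comp]
       simp only [e.inv_hom_id]
       exact CochainComplex.mappingCone.map_id _ }⟩

theorem nonempty_koszulIso : ∀ l : List P,
    Nonempty (((ext φ).mapHomologicalComplex (ComplexShape.up ℤ)).obj (Koszul.koszul P l) ≅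
      Koszul.koszul Q (l.map φ))
  | [] => by
    let := φ.toAlgebra
    let i : (ext φ).obj (ModuleCat.of P P) ≅ ModuleCat.of Q Q :=
      (TensorProduct.AlgebraTensorModule.rid P Q Q).toModuleIso
    exact ⟨(HomologicalComplex.singleMapHomologicalComplex (ext φ) (ComplexShape.up ℤ) 0).app
      (ModuleCat.of P P) ≪≫ (HomologicalComplex.single (ModuleCat.{u} Q) (ComplexShape.up ℤ) 0).mapIso i⟩
  | f :: l => by
    obtain ⟨e⟩ := nonempty_koszulIso l
    let H' := (ext φ).mapHomologicalComplex (ComplexShape.up ℤ)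
    have hmap : H'.map (f • 𝟙 (Koszul.koszul P l)) = φ f • 𝟙 (H'.obj (Koszul.koszul P l)) := by
      exact HomologicalComplex.hom_ext _ _ fun i => map_smul_id φ f _
    have c1 : H'.map (f • 𝟙 (Koszul.koszul P l)) ≫ e.hom = e.hom ≫ (φ f • 𝟙 _) := by
      rw [hmap, Linear.smul_comp, Category.id_comp, Linear.comp_smul, Category.comp_id]
    obtain ⟨j⟩ := nonempty_coneIso _ (φ f • 𝟙 (Koszul.koszul Q (l.map φ))) e c1
    exact ⟨CochainComplex.mappingCone.mapHomologicalComplexIso (f • 𝟙 (Koszul.koszul P l)) (ext φ) ≪≫ j⟩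

theorem isZero_homology_map (hφ : φ.Flat) (l : List P)
    (h : ∀ i : ℤ, i ≠ 0 → IsZero ((Koszul.koszul P l).homology i)) (i : ℤ) (hi : i ≠ 0) :
    IsZero ((Koszul.koszul Q (l.map φ)).homology i) := by
  have : PreservesFiniteLimits (ext φ) := ModuleCat.preservesFiniteLimits_extendScalars_of_flat hφ
  have : PreservesColimitsOfSize.{0, 0} (ext φ) :=
    (ModuleCat.extendRestrictScalarsAdj.{u, u, u} φ).leftAdjoint_preservesColimits
  obtain ⟨e⟩ := nonempty_koszulIso φ l
  have h1 := ((Koszul.koszul P l).exactAt_iff_isZero_homology i).2 (h i hi)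
  have h2 : (((ext φ).mapHomologicalComplex (ComplexShape.up ℤ)).obj (Koszul.koszul P l)).ExactAt i :=
    h1.map (ext φ)
  exact (HomologicalComplex.exactAt_iff_isZero_homology _ _).1 (h2.of_iso e)

end Groth.Agent.KoszulWiebe
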